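import Groth.Agent.Adeq2Lib.AffineVanish
import Groth.Agent.GrpSchLib.GaPts
import Groth.Prelude.Def_CGrpSh2

/-! fppf cohomology of the additive group on affine schemes, and of its iterated extensions. -/

set_option autoImplicit false

universe u

open CategoryTheory CategoryTheory.Limits AlgebraicGeometry Opposite Abelian TensorProduct
open scoped CategoryTheory.MonObj

noncomputable section

namespace Groth.Agent.GaVanish

open Groth.Agent.AdeqFound GrpSchLib.GaPts

theorem adequate_unit {S : Scheme.{u}} (R : CommRingCat.{u}) (a : Spec R ⟶ S) :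
    Adeq.adequate R ((Adeq.toMVF Scheme.fppfPrecoverage a).obj
      (BigSite.unitMod Scheme.fppfPrecoverage S)) := by
  let M : ModuleCat.{u + 1} R := ModuleCat.of R (ULift.{u + 1} R)
  let N : ModuleCat.{u + 1} R := ModuleCat.of R PUnit.{u + 2}
  let F := (Adeq.toMVF Scheme.fppfPrecoverage a).obj (BigSite.unitMod Scheme.fppfPrecoverage S)
  let val : ∀ B : Adeq.Alg R, F.obj (Adeq.pt B) → ↑B := fun B x =>
    (Scheme.ΓSpecIso (CommRingCat.of B)).hom (ULift.down x)
  let fn : ∀ B : Adeq.Alg R, ↑B → F.obj (Adeq.pt B) := fun B b =>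
    Adeq.toSect Scheme.fppfPrecoverage a B b
  have vf : ∀ B b, val B (fn B b) = b := fun B b =>
    ConcreteCategory.congr_hom (Scheme.ΓSpecIso (CommRingCat.of B)).inv_hom_id b
  have fv : ∀ B x, fn B (val B x) = x := fun B x =>
    congrArg ULift.up
      (ConcreteCategory.congr_hom (Scheme.ΓSpecIso (CommRingCat.of B)).hom_inv_id (ULift.down x))
  let emb : F ⟶ U M := PresheafOfModules.homMk
    { app := fun X => AddCommGrpCat.ofHom (AddMonoidHom.mk'
        (fun x => (val X.unop.unop x ⊗ₜ[R] (ULift.up 1 : ULift.{u + 1} R)))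
        (fun x y => by
          refine Eq.trans (congrArg (fun b => b ⊗ₜ[R] (ULift.up 1 : ULift.{u + 1} R)) ?_)
            (TensorProduct.add_tmul _ _ _)
          exact map_add (Scheme.ΓSpecIso (CommRingCat.of X.unop.unop)).hom.hom _ _))
      naturality := fun {X Y} f => by
        refine AddCommGrpCat.ext fun x => ?_
        show val Y.unop.unop _ ⊗ₜ[R] _ = f.unop.unop.hom.toLinearMap.rTensor M (_ ⊗ₜ[R] _)
        rw [LinearMap.rTensor_tmul]
        refine congrArg (fun b => b ⊗ₜ[R] (ULift.up 1 : ULift.{u + 1} R)) ?_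
        exact ConcreteCategory.congr_hom
          (Scheme.ΓSpecIso_naturality (CommRingCat.ofHom f.unop.unop.hom.toRingHom)) (ULift.down x) }
    (by
      intro X r x
      show val X.unop.unop _ ⊗ₜ[R] _ = r • (val X.unop.unop x ⊗ₜ[R] _)
      rw [TensorProduct.smul_tmul']
      refine congrArg (fun b => b ⊗ₜ[R] (ULift.up 1 : ULift.{u + 1} R)) ?_
      refine (map_mul (Scheme.ΓSpecIso (CommRingCat.of X.unop.unop)).hom.hom _ _).trans ?_
      exact congrArg₂ (· * ·) (vf X.unop.unop r) rfl)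
  refine adequate_iff.mpr ⟨M, N, 0, emb, fun B => ?_⟩
  let e : (B : Type u) ⊗[R] ULift.{u + 1} R ≃ₗ[R] (B : Type u) :=
    (TensorProduct.congr (LinearEquiv.refl R _) ULift.moduleEquiv).trans (TensorProduct.rid R _)
  have he : ∀ x, e (ap emb B x) = val B x := fun x => by
    show e (val B x ⊗ₜ[R] (ULift.up 1 : ULift.{u + 1} R)) = _
    simp [e]
  refine ⟨fun x y h => ?_, fun z => ⟨fun _ => ⟨fn B (e z), e.injective ?_⟩, fun _ => ?_⟩⟩
  · have := congrArg e h
    rw [he, he] at this
    exact (fv B x).symm.trans ((congrArg (fn B) this).trans (fv B y))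
  · rw [he, vf]
  · rw [ap_underline]
    simp
    rfl

theorem adequateMod_unit (R : CommRingCat.{u}) :
    Adeq.adequateMod Scheme.fppfPrecoverage (Spec R)
      (BigSite.unitMod Scheme.fppfPrecoverage (Spec R)) := by
  refine ⟨PUnit.{u + 1}, fun _ => R, fun _ => 𝟙 _, ?_, fun _ => adequate_unit R (𝟙 _)⟩
  show _ ∈ (Scheme.precoverage _).coverings (Spec R)
  rw [Scheme.ofArrows_mem_precoverage_iff]
  exact ⟨fun z => ⟨⟨⟩, z, rfl⟩, fun _ => ⟨inferInstance, inferInstance⟩⟩

/-- `𝔾_a` is the structure sheaf. -/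
def gaIso (S : Scheme.{u}) : CGrpSh.pts Scheme.fppfPrecoverage (Red.Ga S) ≅
    (BigSite.toAbMod Scheme.fppfPrecoverage S).obj (BigSite.unitMod Scheme.fppfPrecoverage S) :=
  (sheafToPresheaf _ _).preimageIso (NatIso.ofComponents
    (fun T => AddEquiv.toAddCommGrpIso
      { toFun := fun x => ULift.up (Red.gaFn x.down.toMul)
        invFun := fun v => ULift.up (Additive.ofMul (ptOfFn v.down))
        left_inv := fun x => ULift.ext _ _ (gaFn_injective (gaFn_ptOfFn _))
        right_inv := fun v => ULift.ext _ _ (gaFn_ptOfFn _)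
        map_add' := fun x y => congrArg ULift.up (gaFn_mul x.down.toMul y.down.toMul) })
    (fun g => AddCommGrpCat.ext fun x => congrArg ULift.up (gaFn_comp g.unop x.down.toMul)))

theorem subsingleton_H_of_iso {S : Scheme.{u}} {F G : BigSite.Ab Scheme.fppfPrecoverage S}
    (e : F ≅ G) (n : ℕ) (h : Subsingleton (Sheaf.H G n)) : Subsingleton (Sheaf.H F n) := by
  refine ⟨fun x y => ?_⟩
  have key : ∀ z : Sheaf.H F n, Sheaf.H.map e.inv n (Sheaf.H.map e.hom n z) = z := fun z => by
    rw [← Sheaf.H.map_comp_apply, e.hom_inv_id, Sheaf.H.map_id_apply]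
  rw [← key x, ← key y, Subsingleton.elim (Sheaf.H.map e.hom n x) (Sheaf.H.map e.hom n y)]

theorem subsingleton_H_Ga (R : CommRingCat.{u}) (n : ℕ) (hn : 0 < n) :
    Subsingleton (BigSite.H Scheme.fppfPrecoverage (Spec R)
      (CGrpSh.pts Scheme.fppfPrecoverage (Red.Ga (Spec R))) n) := by
  refine subsingleton_H_of_iso (gaIso _) n ?_
  refine subsingleton_H_of_iso (((GrothendieckTopology.overMapPullbackId _ _ _).app _).symm) n ?_
  haveI : IsAffine (Over.mk (𝟙 (Spec R))).left := inferInstanceAs (IsAffine (Spec R))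
  exact Adeq2Lib.AffVan.subsingleton_HU (Spec R) _ (adequateMod_unit R) (Over.mk (𝟙 _)) n hn

theorem subsingleton_H_X₂ {S : Scheme.{u}} {E : ShortComplex (BigSite.Ab Scheme.fppfPrecoverage S)}
    (hE : E.ShortExact) (n : ℕ) (h₁ : Subsingleton (Sheaf.H E.X₁ n))
    (h₃ : Subsingleton (Sheaf.H E.X₃ n)) : Subsingleton (Sheaf.H E.X₂ n) := by
  refine subsingleton_of_forall_eq 0 fun x => ?_
  obtain ⟨y, rfl⟩ := Ext.covariant_sequence_exact₂ _ hE x (Subsingleton.elim _ _)
  rw [Subsingleton.elim y 0, Ext.zero_comp]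

theorem subsingleton_H_tower (R : CommRingCat.{u})
    (n : ℕ) (U : Fin (n + 1) → Over (Spec R)) [∀ j, GrpObj (U j)] [∀ j, IsCommMonObj (U j)]
    (incl : ∀ j : Fin n, U j.castSucc ⟶ U j.succ) (proj : ∀ j : Fin n, U j.succ ⟶ Red.Ga (Spec R))
    [∀ j, IsMonHom (incl j)] [∀ j, IsMonHom (proj j)] (w : ∀ j, incl j ≫ proj j = 1)
    (hex : ∀ j, (CGrpSh.seq Scheme.fppfPrecoverage (incl j) (proj j) (w j)).ShortExact)
    (h0 : IsZero (CGrpSh.pts Scheme.fppfPrecoverage (U 0)))
    (i : ℕ) (hi : 0 < i) (j : Fin (n + 1)) :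
    Subsingleton (BigSite.H Scheme.fppfPrecoverage (Spec R)
      (CGrpSh.pts Scheme.fppfPrecoverage (U j)) i) := by
  induction j using Fin.induction with
  | zero => exact Sheaf.subsingleton_H_of_isZero h0 i
  | succ j ih => exact subsingleton_H_X₂ (hex j) i ih (subsingleton_H_Ga R i hi)

end Groth.Agent.GaVanish
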